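import Mathlib.RingTheory.Henselian
import Mathlib.RingTheory.DiscreteValuationRing.Basic
import Mathlib.FieldTheory.KummerExtension
import Mathlib.RingTheory.Polynomial.Cyclotomic.Roots
import Mathlib.RingTheory.Polynomial.Eisenstein.Basic
import Mathlib.RingTheory.Polynomial.GaussLemma
import Mathlib.FieldTheory.IsAlgClosed.Basic

/-!
Roots of units and of uniformisers over a henselian local ring with algebraically closed residue
field, in degree prime to the residue characteristic.
-/

universe u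

namespace Groth.Agent.TameKummer

open Polynomial IsLocalRing

variable (R : Type u) [CommRing R] [HenselianLocalRing R]

theorem exists_lift_root {n : ℕ} (hn : IsUnit (n : R)) (v : Rˣ) {c : ResidueField R}
    (hc : c ^ n = residue R v) : ∃ w : R, w ^ n = v ∧ residue R w = c := by
  obtain ⟨a, rfl⟩ := residue_surjective c
  have hn0 : n ≠ 0 := by rintro rfl; simp at hn
  have hna : IsUnit a := by
    rw [← residue_ne_zero_iff_isUnit]
    intro h
    rw [h, zero_pow hn0] at hc
    exact ((residue_ne_zero_iff_isUnit (v : R)).2 v.isUnit) hc.symm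
  obtain ⟨w, hw, hwa⟩ := HenselianLocalRing.is_henselian (X ^ n - C (v : R)) (monic_X_pow_sub_C _ hn0) a
    (by rw [← residue_eq_zero_iff]; simp [hc])
    (by simpa [derivative_X_pow] using hn.mul (hna.pow (n - 1)))
  refine ⟨w, sub_eq_zero.1 (by simpa [IsRoot] using hw), ?_⟩
  rw [← sub_eq_zero, ← map_sub, residue_eq_zero_iff]
  exact hwa

theorem exists_root [IsAlgClosed (ResidueField R)] {n : ℕ} (hn : IsUnit (n : R)) (v : Rˣ) :
    ∃ w : R, w ^ n = v := by
  have hn0 : n ≠ 0 := by rintro rfl; simp at hn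
  obtain ⟨c, hc⟩ := IsAlgClosed.exists_pow_nat_eq (residue R v) (Nat.pos_of_ne_zero hn0)
  obtain ⟨w, hw, -⟩ := exists_lift_root R hn v hc
  exact ⟨w, hw⟩

theorem exists_primitiveRoot [IsAlgClosed (ResidueField R)] {n : ℕ} (hn : IsUnit (n : R)) :
    ∃ ζ : R, IsPrimitiveRoot ζ n := by
  have hn0 : n ≠ 0 := by rintro rfl; simp at hn
  haveI : NeZero (n : ResidueField R) := ⟨by
    rw [← map_natCast (residue R)]
    exact (residue_ne_zero_iff_isUnit _).2 hn⟩
  obtain ⟨c, hc⟩ := IsAlgClosed.exists_root (cyclotomic n (ResidueField R))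
    (degree_cyclotomic_pos n _ (Nat.pos_of_ne_zero hn0)).ne'
  rw [isRoot_cyclotomic_iff] at hc
  obtain ⟨w, hw, hwc⟩ := exists_lift_root R hn (1 : Rˣ) (c := c) (by simpa using hc.pow_eq_one)
  refine ⟨w, ⟨by simpa using hw, fun l hl => hc.dvd_of_pow_eq_one l ?_⟩⟩
  rw [← hwc, ← map_pow, hl, map_one]

theorem isUnit_natCast {n p : ℕ} [Fact p.Prime] [CharP (ResidueField R) p] (h : ¬ p ∣ n) :
    IsUnit (n : R) := by
  rw [← residue_ne_zero_iff_isUnit, map_natCast]
  exact fun h0 => h ((CharP.cast_eq_zero_iff (ResidueField R) p n).1 h0)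

omit [HenselianLocalRing R] in
theorem irreducible_X_pow_sub (K : Type u) [Field K] [Algebra R K] [IsDomain R]
    [IsDiscreteValuationRing R] [IsFractionRing R K] {n : ℕ} (hn : 1 ≤ n) {ϖ : R} (hϖ : Irreducible ϖ) :
    Irreducible (X ^ n - C (algebraMap R K ϖ)) := by
  have hm : (X ^ n - C ϖ).Monic := monic_X_pow_sub_C _ (by omega)
  have hirr : Irreducible (X ^ n - C ϖ) := by
    refine IsEisensteinAt.irreducible (𝓟 := maximalIdeal R) ⟨?_, ?_, ?_⟩ inferInstance hm.isPrimitive
      (by rw [natDegree_X_pow_sub_C]; omega)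
    · rw [hm.leadingCoeff]
      exact fun h => (maximalIdeal.isMaximal R).ne_top ((Ideal.eq_top_iff_one _).2 h)
    · intro i hi
      rw [natDegree_X_pow_sub_C] at hi
      rw [coeff_sub, coeff_X_pow, if_neg hi.ne, zero_sub, neg_mem_iff, coeff_C]
      split_ifs
      · exact hϖ.not_isUnit
      · exact zero_mem _
    · rw [coeff_sub, coeff_X_pow, if_neg (by omega), zero_sub, coeff_C_zero, neg_mem_iff,
        (IsDiscreteValuationRing.irreducible_iff_uniformizer ϖ).1 hϖ, Ideal.span_singleton_pow,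
        Ideal.mem_span_singleton]
      intro h
      have : ϖ * ϖ ∣ ϖ * 1 := by rwa [mul_one, ← sq]
      exact hϖ.not_isUnit (isUnit_of_dvd_one ((mul_dvd_mul_iff_left hϖ.ne_zero).1 this))
  have := (hm.irreducible_iff_irreducible_map_fraction_map (K := K)).1 hirr
  simpa using this

end Groth.Agent.TameKummer
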